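import Groth.Agent.Lib.HensPoint24.Lift
import Groth.Agent.Lib.Gabber24.Hens
import Groth.Agent.Lib.FieldH25.Transfer
import Groth.Agent.Lib.FieldH25.GaAS
import Groth.Agent.Lib.EtStalk.FiniteBC
import Groth.Agent.Lib.EtStalk.Agree

/-!
# Cohomology of a henselian local scheme is that of its closed point
-/

universe u

open CategoryTheory CategoryTheory.Limits AlgebraicGeometry Opposite CategoryTheory.Abelian
open Groth.Agent.EtStalk

set_option backward.isDefEq.respectTransparency.types false

namespace Groth.Agent.HensPoint24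

/-- The unit along a surjective morphism is a monomorphism. -/
theorem mono_unit_of_surjective {X Y : Scheme.{u}} (f : X ⟶ Y) [Surjective f] (F : EtCoh.Ab Y) :
    Mono ((EtCoh.pullPushAdj f).unit.app F) := by
  refine (mono_iff_app_injective _).2 fun V s t h => eq_of_agree F fun v => ?_
  obtain ⟨z, hz⟩ := (surjective_bcFst f V.unop).surj v
  rw [← hz]
  exact (mem_agree_unit f F s t z).1 (by rw [h]; exact agree_self _ _ _)

variable {A : Type u} [CommRing A] [HenselianLocalRing A]

local notation "k" => IsLocalRing.ResidueField A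
local notation "Y" => Spec (CommRingCat.of A)
local notation "i₀" => Spec.map (CommRingCat.ofHom (IsLocalRing.residue A))

/-- Inverse images of injective sheaves have no cohomology at the closed point. -/
theorem subsingleton_H_pull_injective (I : EtCoh.Ab Y) [Injective I] {q : ℕ} (hq : 0 < q) :
    Subsingleton (EtCoh.H (Spec (CommRingCat.of k)) ((EtCoh.pull i₀).obj I) q) := by
  refine FieldH25.subsingleton_H_of_retract _ (fun M _ _ _ _ _ => ?_) hq
  obtain ⟨B, p, j, hp, hpe, hps, hpb⟩ := exists_finite_etale_lift A M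
  haveI := mono_unit_of_surjective p I
  let η := (EtCoh.pullPushAdj p).unit.app I
  let r : (EtCoh.push p).obj ((EtCoh.pull p).obj I) ⟶ I := Injective.factorThru (𝟙 I) η
  have hr : η ≫ r = 𝟙 I := Injective.comp_factorThru _ _
  let bc := EtCoh.baseChange0 p i₀ (FieldH25.specExt k M) j hpb.w ((EtCoh.pull p).obj I)
  haveI : IsIso bc := isIso_baseChange0_finite p i₀ (FieldH25.specExt k M) j hpb ((EtCoh.pull p).obj I)
  let f := (EtCoh.pull i₀).map η ≫ bc
  let adj := EtCoh.pullPushAdj (FieldH25.specExt k M)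
  let φ := (adj.homEquiv ((EtCoh.pull i₀).obj I) ((EtCoh.pull j).obj ((EtCoh.pull p).obj I))).symm f
  have hf : adj.unit.app ((EtCoh.pull i₀).obj I) ≫ (EtCoh.push (FieldH25.specExt k M)).map φ = f := by
    exact (Adjunction.homEquiv_unit (adj := adj) (f := φ)).symm.trans (Equiv.apply_symm_apply _ _)
  have hu := Adjunction.unit_leftAdjointUniq_hom_app (restrPushAdj (FieldH25.specExt k M))
    (EtCoh.pullPushAdj (FieldH25.specExt k M)) ((EtCoh.pull i₀).obj I)
  refine IsSplitMono.mk' ⟨(EtCoh.push (FieldH25.specExt k M)).map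
    (((restrPushAdj (FieldH25.specExt k M)).leftAdjointUniq (EtCoh.pullPushAdj (FieldH25.specExt k M))).hom.app _) ≫
      (EtCoh.push (FieldH25.specExt k M)).map φ ≫ inv bc ≫ (EtCoh.pull i₀).map r, ?_⟩
  rw [reassoc_of% hu, reassoc_of% hf]
  simp only [f, Category.assoc, IsIso.hom_inv_id_assoc]
  exact ((EtCoh.pull i₀).map_comp η r).symm.trans ((congrArg _ hr).trans ((EtCoh.pull i₀).map_id I))

/-- The unit into the direct image from the closed point is bijective on cohomology. -/
theorem bijective_comp_unit : ∀ (n : ℕ) (F : EtCoh.Ab Y),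
    Function.Bijective (fun x : EtCoh.H Y F n =>
      x.comp (Ext.mk₀ ((EtCoh.pullPushAdj i₀).unit.app F)) (add_zero n))
  | 0, F => by
    haveI : IsClosedImmersion i₀ := IsClosedImmersion.spec_of_surjective _ IsLocalRing.residue_surjective
    have hu := Gabber24.bijective_unit_proper (A := A) (I := IsLocalRing.maximalIdeal A) inferInstance
      (𝟙 _) i₀ ((range_comap_of_surjective _ (IsLocalRing.residue A) IsLocalRing.residue_surjective).trans
        (by rw [IsLocalRing.ker_residue]; rfl)) F
    let hT : IsTerminal (EtCoh.top Y) := EtCore.topIsTerminal Y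
    let e₁ := Sheaf.H.equiv₀ F hT
    let e₂ := Sheaf.H.equiv₀ ((EtCoh.push i₀).obj ((EtCoh.pull i₀).obj F)) hT
    have h : (fun x : EtCoh.H Y F 0 => x.comp (Ext.mk₀ ((EtCoh.pullPushAdj i₀).unit.app F)) (add_zero 0)) =
        e₂.symm ∘ (((EtCoh.pullPushAdj i₀).unit.app F).hom.app (op (EtCoh.top Y))) ∘ e₁ := by
      funext x
      apply e₂.injective
      simp only [Function.comp_apply, AddEquiv.apply_symm_apply]
      exact (Sheaf.H.equiv₀_naturality hT ((EtCoh.pullPushAdj i₀).unit.app F) x).symm
    rw [h]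
    exact e₂.symm.bijective.comp (hu.comp e₁.bijective)
  | n + 1, F => by
    haveI : IsClosedImmersion i₀ := IsClosedImmersion.spec_of_surjective _ IsLocalRing.residue_surjective
    let S := ShortComplex.mk (Injective.ι F) (cokernel.π (Injective.ι F)) (cokernel.condition _)
    have hS : S.ShortExact := { exact := ShortComplex.exact_cokernel (Injective.ι F) }
    haveI : Injective S.X₂ := inferInstanceAs (Injective (Injective.under F))
    let T := EtCoh.pull i₀ ⋙ EtCoh.push i₀
    let η : 𝟭 (EtCoh.Ab Y) ⟶ T := (EtCoh.pullPushAdj i₀).unit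
    haveI : (EtCoh.push i₀).IsRightAdjoint := (EtCoh.pullPushAdj i₀).isRightAdjoint
    haveI := preservesFiniteColimits_push_integral i₀
    haveI : (EtCoh.pull i₀).IsLeftAdjoint := (EtCoh.pullPushAdj i₀).isLeftAdjoint
    haveI : PreservesFiniteLimits T := inferInstance
    haveI : PreservesFiniteColimits T := inferInstance
    haveI : T.Additive := Functor.additive_of_preserves_binary_products T
    have hTS : (S.map T).ShortExact := hS.map_of_exact T
    let φ : S ⟶ S.map T :=
      { τ₁ := η.app _, τ₂ := η.app _, τ₃ := η.app _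
        comm₁₂ := (η.naturality S.f).symm, comm₂₃ := (η.naturality S.g).symm }
    have hδ : ∀ y : EtCoh.H Y S.X₃ n, (y.comp hS.extClass rfl).comp (Ext.mk₀ (η.app F)) (add_zero (n + 1)) =
        (y.comp (Ext.mk₀ (η.app S.X₃)) (add_zero n)).comp hTS.extClass rfl := fun y => by
      rw [Ext.comp_assoc_of_third_deg_zero]
      refine (congrArg (fun t => y.comp t rfl) (ShortComplex.ShortExact.extClass_naturality hS hTS φ)).trans ?_
      rw [← Ext.comp_assoc_of_second_deg_zero]
      rfl
    have hTI : Subsingleton (EtCoh.H Y (T.obj S.X₂) (n + 1)) := by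
      haveI := subsingleton_H_pull_injective (A := A) S.X₂ (q := n + 1) n.succ_pos
      exact (FieldH25.bijective_HofPush_integral i₀ ((EtCoh.pull i₀).obj S.X₂) (n + 1)).1.subsingleton
    have hQ := bijective_comp_unit n S.X₃
    have hI := bijective_comp_unit n S.X₂
    constructor
    · refine fun a b hab => sub_eq_zero.1 ?_
      have hab' : (a - b).comp (Ext.mk₀ (η.app F)) (add_zero (n + 1)) = 0 :=
        (map_sub ((Ext.mk₀ (η.app F)).postcomp _ (add_zero _)) a b).trans (sub_eq_zero.2 hab)
      obtain ⟨y, hy⟩ := Ext.covariant_sequence_exact₁ _ hS (a - b) (Ext.eq_zero_of_injective _) (n₀ := n) rfl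
      rw [← hy, hδ] at hab'
      obtain ⟨z, hz⟩ := Ext.covariant_sequence_exact₃ _ hTS _ rfl hab'
      obtain ⟨z', hz'⟩ := hI.2 z
      have : y = z'.comp (Ext.mk₀ S.g) (add_zero n) := by
        refine hQ.1 ?_
        show y.comp (Ext.mk₀ (η.app S.X₃)) _ = (z'.comp (Ext.mk₀ S.g) _).comp (Ext.mk₀ (η.app S.X₃)) _
        rw [← hz, ← hz']
        refine ((congrArg (fun t => t) (Ext.comp_assoc_of_third_deg_zero _ _ _ _)).trans ?_).trans
          (Ext.comp_assoc_of_third_deg_zero _ _ _ _).symm
        erw [Ext.mk₀_comp_mk₀, Ext.mk₀_comp_mk₀]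
        exact congrArg (fun t => z'.comp (Ext.mk₀ t) (add_zero n)) (η.naturality S.g).symm
      rw [← hy, this]
      exact (Ext.comp_assoc_of_second_deg_zero _ _ _ _).trans (by rw [hS.comp_extClass, Ext.comp_zero])
    · intro c
      haveI : Subsingleton (Ext (EtCoh.const Y ℤ) (S.map T).X₂ (n + 1)) := hTI
      obtain ⟨w, hw⟩ := Ext.covariant_sequence_exact₁ _ hTS c (Subsingleton.elim _ _) (n₀ := n) rfl
      obtain ⟨y, rfl⟩ := hQ.2 w
      exact ⟨y.comp hS.extClass rfl, (hδ y).trans hw⟩

theorem bijective_Hpull (F : EtCoh.Ab Y) [PreservesFiniteLimits (EtCoh.pull i₀)] (n : ℕ) :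
    Function.Bijective (EtCore.Hpull i₀ F n) := by
  haveI : IsClosedImmersion i₀ := IsClosedImmersion.spec_of_surjective _ IsLocalRing.residue_surjective
  have h1 := FieldH25.bijective_HofPush_integral i₀ ((EtCoh.pull i₀).obj F) n
  have h2 := bijective_comp_unit n F
  have : (EtCore.Hpull i₀ F n : _ → _) = EtLim.HofPush i₀ ((EtCoh.pull i₀).obj F) n ∘
      (fun x : EtCoh.H Y F n => x.comp (Ext.mk₀ ((EtCoh.pullPushAdj i₀).unit.app F)) (add_zero n)) :=
    funext fun x => (FieldH25.HofPush_unit i₀ F n x).symm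
  rw [this]
  exact h1.comp h2

end Groth.Agent.HensPoint24
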