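import Groth.Prelude.Def_EtBase
import Groth.Agent.Lib.Azumaya.EtaleSub
import Mathlib.FieldTheory.PrimitiveElement

/-!
# Finite separable residue extensions of a local ring lift to finite etale covers
-/

universe u

open CategoryTheory CategoryTheory.Limits AlgebraicGeometry Opposite Polynomial

namespace Groth.Agent.HensPoint24

theorem exists_finite_etale_lift (A : Type u) [CommRing A] [IsLocalRing A] (M : Type u) [Field M]
    [Algebra (IsLocalRing.ResidueField A) M] [FiniteDimensional (IsLocalRing.ResidueField A) M]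
    [Algebra.IsSeparable (IsLocalRing.ResidueField A) M] :
    ∃ (B : CommRingCat.{u}) (p : Spec B ⟶ Spec (CommRingCat.of A)) (j : Spec (CommRingCat.of M) ⟶ Spec B),
      IsFinite p ∧ AlgebraicGeometry.Etale p ∧ Surjective p ∧
      IsPullback j (Spec.map (CommRingCat.ofHom (algebraMap (IsLocalRing.ResidueField A) M))) p
        (Spec.map (CommRingCat.ofHom (IsLocalRing.residue A))) := by
  classical
  let k := IsLocalRing.ResidueField A
  let pb : PowerBasis k M := Field.powerBasisOfFiniteOfSeparable k M
  have hgen : IsIntegral k pb.gen := Algebra.IsIntegral.isIntegral _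
  obtain ⟨f, hfmap, -, hf⟩ := Polynomial.lifts_and_degree_eq_and_monic
    (Polynomial.mem_lifts_of_surjective IsLocalRing.residue_surjective _)
    (minpoly.monic hgen) (f := IsLocalRing.residue A)
  have hsep : f.Separable := Azumaya.separable_of_map_residue f hf (by
    rw [hfmap]
    exact Algebra.IsSeparable.isSeparable k pb.gen)
  haveI := Azumaya.etale_adjoinRoot f hf hsep
  haveI := hf.free_adjoinRoot
  haveI := hf.finite_adjoinRoot
  let B := CommRingCat.of (AdjoinRoot f)
  let φ : AdjoinRoot f →+* M := AdjoinRoot.lift ((algebraMap k M).comp (IsLocalRing.residue A)) pb.gen (by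
    rw [← Polynomial.eval₂_map, hfmap, ← Polynomial.aeval_def, minpoly.aeval])
  haveI : Nontrivial (AdjoinRoot f) := φ.domain_nontrivial
  haveI : Module.FaithfullyFlat A (AdjoinRoot f) := inferInstance
  let p := Spec.map (CommRingCat.ofHom (algebraMap A (AdjoinRoot f)))
  refine ⟨B, p, Spec.map (CommRingCat.ofHom φ), (IsFinite.SpecMap_iff _).2 (RingHom.finite_algebraMap.2 inferInstance),
    ?_, ⟨fun x => PrimeSpectrum.comap_surjective_of_faithfullyFlat x⟩, ?_⟩
  · rw [HasRingHomProperty.Spec_iff (P := @AlgebraicGeometry.Etale)]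
    exact RingHom.etale_algebraMap.2 inferInstance
  refine isPullback_SpecMap_of_isPushout _ _ _ _ ⟨⟨?_⟩, ⟨PushoutCocone.IsColimit.mk _
    (fun s => CommRingCat.ofHom ?_) ?_ ?_ ?_⟩⟩
  · refine CommRingCat.hom_ext (RingHom.ext fun a => ?_)
    have hφ : ∀ h, (AdjoinRoot.lift ((algebraMap k M).comp (IsLocalRing.residue A)) pb.gen h) (AdjoinRoot.of f a) = algebraMap k M (IsLocalRing.residue A a) :=
      fun h => AdjoinRoot.lift_of (f := f) h
    exact hφ (by rw [← Polynomial.eval₂_map, hfmap, ← Polynomial.aeval_def, minpoly.aeval])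
  · letI : Algebra k s.pt := s.inr.hom.toAlgebra
    refine (pb.lift (s.inl (AdjoinRoot.root f)) ?_).toRingHom
    have hw : s.inr.hom.comp (IsLocalRing.residue A) = s.inl.hom.comp (algebraMap A (AdjoinRoot f)) :=
      (congrArg CommRingCat.Hom.hom s.condition).symm
    rw [Polynomial.aeval_def, show minpoly k pb.gen = f.map (IsLocalRing.residue A) from hfmap.symm,
      Polynomial.eval₂_map, show (algebraMap k s.pt) = s.inr.hom from rfl, hw,
      ← Polynomial.hom_eval₂]
    exact (congrArg s.inl.hom (AdjoinRoot.eval₂_root f)).trans (map_zero _)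
  · intro s
    letI : Algebra k s.pt := s.inr.hom.toAlgebra
    have hw : s.inr.hom.comp (IsLocalRing.residue A) = s.inl.hom.comp (algebraMap A (AdjoinRoot f)) :=
      (congrArg CommRingCat.Hom.hom s.condition).symm
    refine CommRingCat.hom_ext (AdjoinRoot.ringHom_ext ?_ ?_)
    · ext a
      simp [φ]
      exact congr($hw a)
    · simp [φ]
  · intro s
    letI : Algebra k s.pt := s.inr.hom.toAlgebra
    ext a
    simp
    rfl
  · intro s m hm₁ hm₂
    letI : Algebra k s.pt := s.inr.hom.toAlgebra
    let m' : M →ₐ[k] s.pt := { m.hom with commutes' := fun r => congr($hm₂ r) }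
    refine CommRingCat.hom_ext (RingHom.ext fun x => ?_)
    refine DFunLike.congr_fun (pb.algHom_ext (f := m') (g := pb.lift (s.inl (AdjoinRoot.root f)) ?hy) ?_) x
    case hy =>
      have hw : s.inr.hom.comp (IsLocalRing.residue A) = s.inl.hom.comp (algebraMap A (AdjoinRoot f)) :=
        (congrArg CommRingCat.Hom.hom s.condition).symm
      rw [Polynomial.aeval_def, show minpoly k pb.gen = f.map (IsLocalRing.residue A) from hfmap.symm,
        Polynomial.eval₂_map, show (algebraMap k s.pt) = s.inr.hom from rfl, hw, ← Polynomial.hom_eval₂]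
      exact (congrArg s.inl.hom (AdjoinRoot.eval₂_root f)).trans (map_zero _)
    rw [PowerBasis.lift_gen]
    have h := congr($hm₁ (AdjoinRoot.root f))
    refine Eq.trans ?_ h
    have hφ : φ (AdjoinRoot.root f) = pb.gen := AdjoinRoot.lift_root (f := f) _
    exact (congrArg m.hom hφ).symm

end Groth.Agent.HensPoint24
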